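import Mathlib

/-! # Exterior powers commute with base change -/

namespace Groth.Agent.H27DR

open TensorProduct

universe u v w w'

variable {A : Type u} {B : Type v} [CommRing A] [CommRing B] [Algebra A B]
  {M : Type w} [AddCommGroup M] [Module A M]
  {N : Type w'} [AddCommGroup N] [Module A N] [Module B N] [IsScalarTower A B N]

theorem anticomm_ι (x y : M) :
    ExteriorAlgebra.ι A x * ExteriorAlgebra.ι A y + ExteriorAlgebra.ι A y * ExteriorAlgebra.ι A x = 0 := by
  exact ExteriorAlgebra.ι_add_mul_swap x y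

theorem exists_square_zero {f : M →ₗ[A] N} (hf : IsBaseChange B f) :
    ∃ g : N →ₗ[B] B ⊗[A] ExteriorAlgebra A M,
      (∀ m, g (f m) = 1 ⊗ₜ[A] ExteriorAlgebra.ι A m) ∧ ∀ n, g n * g n = 0 := by
  let g : N →ₗ[B] B ⊗[A] ExteriorAlgebra A M :=
    hf.lift ((Algebra.TensorProduct.includeRight : ExteriorAlgebra A M →ₐ[A] B ⊗[A] ExteriorAlgebra A M).toLinearMap ∘ₗ
      ExteriorAlgebra.ι A)
  have hg : ∀ m, g (f m) = 1 ⊗ₜ[A] ExteriorAlgebra.ι A m := fun m => hf.lift_eq _ m
  have hanti : ∀ n n', g n * g n' + g n' * g n = 0 := by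
    intro n n'
    induction n using hf.inductionOn with
    | zero => simp
    | smul b m ih =>
      rw [map_smul, smul_mul_assoc, mul_smul_comm, ← smul_add, ih, smul_zero]
    | add a b ha hb =>
      rw [map_add, add_mul, mul_add, add_add_add_comm, ha, hb, add_zero]
    | tmul m =>
      induction n' using hf.inductionOn with
      | zero => simp
      | smul b m' ih =>
        rw [map_smul, smul_mul_assoc, mul_smul_comm, ← smul_add, ih, smul_zero]
      | add a b ha hb =>
        rw [map_add, add_mul, mul_add, add_add_add_comm, ha, hb, add_zero]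
      | tmul m' =>
        rw [hg, hg, Algebra.TensorProduct.tmul_mul_tmul, Algebra.TensorProduct.tmul_mul_tmul,
          mul_one, ← TensorProduct.tmul_add, anticomm_ι, TensorProduct.tmul_zero]
  refine ⟨g, hg, fun n => ?_⟩
  induction n using hf.inductionOn with
  | zero => simp
  | tmul m =>
    rw [hg, Algebra.TensorProduct.tmul_mul_tmul, ExteriorAlgebra.ι_sq_zero, TensorProduct.tmul_zero]
  | smul b m ih =>
    rw [map_smul, smul_mul_assoc, mul_smul_comm, ih, smul_zero, smul_zero]
  | add a b ha hb =>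
    rw [map_add, add_mul, mul_add, mul_add, ha, hb, zero_add, add_zero]
    exact hanti a b

theorem isBaseChange_exteriorPower {f : M →ₗ[A] N} (hf : IsBaseChange B f) {p : ℕ}
    (F : ↥(⋀[A]^p M) →ₗ[A] ↥(⋀[B]^p N))
    (hF : ∀ m : Fin p → M, F (exteriorPower.ιMulti A p m) = exteriorPower.ιMulti B p (fun i => f (m i))) :
    IsBaseChange B F := by
  classical
  obtain ⟨g, hg, hg2⟩ := exists_square_zero hf
  let L := ExteriorAlgebra.lift B ⟨g, hg2⟩
  let r : ExteriorAlgebra A M →ₗ[A] ↥(⋀[A]^p M) :=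
    (DirectSum.component A ℕ (fun i => ↥(⋀[A]^i M)) p) ∘ₗ
      (DirectSum.decomposeLinearEquiv (fun i : ℕ => ⋀[A]^i M)).toLinearMap
  have hr : ∀ x : ↥(⋀[A]^p M), r x = x := by
    intro x
    simp [r]
  let G : ↥(⋀[B]^p N) →ₗ[B] B ⊗[A] ↥(⋀[A]^p M) :=
    r.baseChange B ∘ₗ L.toLinearMap ∘ₗ (⋀[B]^p N).subtype
  let Φ : B ⊗[A] ↥(⋀[A]^p M) →ₗ[B] ↥(⋀[B]^p N) := F.liftBaseChange B
  have hGm : ∀ m : Fin p → M,
      G (exteriorPower.ιMulti B p (fun i => f (m i))) = 1 ⊗ₜ[A] exteriorPower.ιMulti A p m := by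
    intro m
    have h1 : L (ExteriorAlgebra.ιMulti B p (fun i => f (m i))) =
        1 ⊗ₜ[A] ExteriorAlgebra.ιMulti A p m := by
      rw [ExteriorAlgebra.ιMulti_apply, map_list_prod, List.map_ofFn]
      have h2 : (L ∘ fun i => ExteriorAlgebra.ι B (f (m i))) =
          fun i => (Algebra.TensorProduct.includeRight : ExteriorAlgebra A M →ₐ[A] B ⊗[A] ExteriorAlgebra A M)
            (ExteriorAlgebra.ι A (m i)) := by
        funext i
        simp [L, hg]
      rw [h2, ExteriorAlgebra.ιMulti_apply]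
      show _ = (Algebra.TensorProduct.includeRight : ExteriorAlgebra A M →ₐ[A] B ⊗[A] ExteriorAlgebra A M) _
      rw [map_list_prod, List.map_ofFn]
      rfl
    show r.baseChange B (L (ExteriorAlgebra.ιMulti B p (fun i => f (m i)))) = _
    rw [h1, LinearMap.baseChange_tmul]
    congr 1
    exact hr (exteriorPower.ιMulti A p m)
  have hGΦ : G ∘ₗ Φ = LinearMap.id := by
    apply TensorProduct.AlgebraTensorModule.curry_injective
    apply LinearMap.ext_ring
    refine exteriorPower.linearMap_ext (AlternatingMap.ext fun m => ?_)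
    simp [Φ, hF, hGm]
  have hΦ : Function.Surjective Φ := by
    rw [← LinearMap.range_eq_top, eq_top_iff]
    have hspan : Submodule.span B (Set.range f) = ⊤ := by
      rw [eq_top_iff]
      rintro n -
      induction n using hf.inductionOn with
      | zero => exact zero_mem _
      | tmul m => exact Submodule.subset_span ⟨m, rfl⟩
      | smul b x hx => exact Submodule.smul_mem _ _ hx
      | add a b ha hb => exact add_mem ha hb
    rw [← exteriorPower.ιMulti_span_of_span B p N hspan, Submodule.span_le]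
    rintro _ ⟨a, ha, rfl⟩
    have : ∀ i, ∃ m, f m = a i := fun i => ha ⟨i, rfl⟩
    choose m hm using this
    exact ⟨1 ⊗ₜ exteriorPower.ιMulti A p m, by simp [Φ, hF, hm]⟩
  refine IsBaseChange.of_equiv (LinearEquiv.ofBijective Φ
    ⟨Function.LeftInverse.injective (g := G) fun x => LinearMap.congr_fun hGΦ x, hΦ⟩) fun x => ?_
  simp [Φ]

end Groth.Agent.H27DR
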