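import Mathlib
import Groth.Prelude.Def_DeRham

/-! # Basic facts about the ring-level de Rham predicates: generation, uniqueness -/

namespace Groth.Agent.H27DR

open exteriorPower

universe u v u' v'

variable {R : Type v} {A M : Type u} [CommRing R] [CommRing A] [Algebra R A]
  [AddCommGroup M] [Module A M] [Module R M]

theorem ιMulti_span_eq_top (δ : Derivation R A M) (hδ : Submodule.span A (Set.range δ) = ⊤) (p : ℕ) :
    Submodule.span A (Set.range fun b : Fin p → A => ιMulti A p (fun i => δ (b i))) = ⊤ := by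
  have h := exteriorPower.ιMulti_span_of_span A p M hδ
  rw [← top_le_iff, ← h]
  apply Submodule.span_le.mpr
  rintro x ⟨a, ha, rfl⟩
  have : ∀ i, ∃ b, δ b = a i := fun i => ha ⟨i, rfl⟩
  choose b hb using this
  exact Submodule.subset_span ⟨b, by simp [hb]⟩

/-- The elements `b₀ • δb₁ ∧ … ∧ δb_p` generate additively. -/
theorem gen_induction (δ : Derivation R A M) (hδ : Submodule.span A (Set.range δ) = ⊤) (p : ℕ)
    {P : ↥(⋀[A]^p M) → Prop} (hgen : ∀ b₀ b, P (DeRham.gen δ p b₀ b))
    (hzero : P 0) (hadd : ∀ x y, P x → P y → P (x + y)) (x : ↥(⋀[A]^p M)) : P x := by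
  have hx : x ∈ Submodule.span A (Set.range fun b : Fin p → A => ιMulti A p (fun i => δ (b i))) := by
    rw [ιMulti_span_eq_top δ hδ]; trivial
  suffices ∀ c : A, P (c • x) by simpa using this 1
  induction hx using Submodule.span_induction with
  | mem y hy =>
    obtain ⟨b, rfl⟩ := hy
    exact fun c => hgen c b
  | zero => intro c; simpa using hzero
  | add y z _ _ hy hz => intro c; rw [smul_add]; exact hadd _ _ (hy c) (hz c)
  | smul a y _ hy => intro c; rw [smul_smul]; exact hy _

theorem kaehler_span (R A : Type u) [CommRing R] [CommRing A] [Algebra R A] :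
    Submodule.span A (Set.range (KaehlerDifferential.D R A)) = ⊤ :=
  KaehlerDifferential.span_range_derivation R A

/-- The rule forces `d ∘ d = 0` on a generated receptacle. -/
theorem comp_eq_zero_of_isRule [IsScalarTower R A M] (δ : Derivation R A M)
    (hδ : Submodule.span A (Set.range δ) = ⊤)
    (d : ∀ p : ℕ, ↥(⋀[A]^p M) →ₗ[R] ↥(⋀[A]^(p + 1) M)) (hd : DeRham.IsRule δ d) (p : ℕ) :
    d (p + 1) ∘ₗ d p = 0 := by
  ext1 x
  refine gen_induction δ hδ p (P := fun x => (d (p + 1) ∘ₗ d p) x = 0) ?_ (by simp)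
    (fun x y hx hy => by simp_all) x
  intro b₀ b
  rw [LinearMap.comp_apply, hd]
  have key : (fun i : Fin (p + 1) => δ ((Fin.cons b₀ b : Fin (p + 1) → A) i)) =
      Fin.cons (δ b₀) (fun i => δ (b i)) := by
    ext i; refine Fin.cases ?_ ?_ i <;> simp
  have := hd (p + 1) 1 (Fin.cons b₀ b)
  rw [DeRham.gen, one_smul, key] at this
  rw [this]
  apply AlternatingMap.map_coord_zero _ (0 : Fin (p + 1 + 1))
  simp

end Groth.Agent.H27DR

namespace Groth.Agent.H27DR

open exteriorPower

universe w

variable {R S A B : Type w} [CommRing R] [CommRing S] [CommRing A] [CommRing B]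
  [Algebra R S] [Algebra R A] [Algebra R B] [Algebra A B] [Algebra S B]
  [IsScalarTower R A B] [IsScalarTower R S B]

/-- `ιMulti` of `B` after the functorial map on Kähler differentials, as an `A`-alternating map. -/
noncomputable def kaehlerAlt (p : ℕ) : (Ω[A⁄R]) [⋀^Fin p]→ₗ[A] ↥(⋀[B]^p (Ω[B⁄S])) where
  toFun m := ιMulti B p (fun i => KaehlerDifferential.map R S A B (m i))
  map_update_add' m i x y := by
    classical
    have h : ∀ z, (fun j => KaehlerDifferential.map R S A B (Function.update m i z j)) =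
        Function.update (fun j => KaehlerDifferential.map R S A B (m j)) i
          (KaehlerDifferential.map R S A B z) := fun z => by
      ext j; by_cases hj : j = i <;> simp [hj]
    simp only [h, map_add]
    exact (ιMulti B p).map_update_add _ _ _ _
  map_update_smul' m i c x := by
    classical
    have h : ∀ z, (fun j => KaehlerDifferential.map R S A B (Function.update m i z j)) =
        Function.update (fun j => KaehlerDifferential.map R S A B (m j)) i
          (KaehlerDifferential.map R S A B z) := fun z => by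
      ext j; by_cases hj : j = i <;> simp [hj]
    simp only [h, map_smul]
    rw [← IsScalarTower.algebraMap_smul B c, (ιMulti B p).map_update_smul,
      IsScalarTower.algebraMap_smul]
  map_eq_zero_of_eq' m i j h hij := by
    exact (ιMulti B p).map_eq_zero_of_eq _ (by simp [h]) hij

/-- The map of de Rham complexes of a square exists. -/
theorem exists_isCxMap : ∃ ψ : ∀ p : ℕ, ↥(⋀[A]^p (Ω[A⁄R])) →+ ↥(⋀[B]^p (Ω[B⁄S])),
    DeRham.IsCxMap (KaehlerDifferential.D R A) (KaehlerDifferential.D S B) (algebraMap A B) ψ := by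
  refine ⟨fun p => (exteriorPower.alternatingMapLinearEquiv (kaehlerAlt p)).toAddMonoidHom,
    fun p b₀ b => ?_⟩
  simp only [DeRham.gen, LinearMap.toAddMonoidHom_coe, map_smul,
    exteriorPower.alternatingMapLinearEquiv_apply_ιMulti]
  rw [← IsScalarTower.algebraMap_smul B b₀]
  simp [kaehlerAlt, KaehlerDifferential.map_D]

end Groth.Agent.H27DR

namespace Groth.Agent.H27DR

open exteriorPower

universe u₁ u₂ v₁ v₂

theorem cxMap_comm {R : Type v₁} {A M : Type u₁} {R' : Type v₂} {A' M' : Type u₂}
    [CommRing R] [CommRing A] [Algebra R A]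
    [AddCommGroup M] [Module A M] [Module R M] [IsScalarTower R A M]
    [CommRing R'] [CommRing A'] [Algebra R' A']
    [AddCommGroup M'] [Module A' M'] [Module R' M'] [IsScalarTower R' A' M']
    (δ : Derivation R A M) (hδ : Submodule.span A (Set.range δ) = ⊤) (δ' : Derivation R' A' M')
    (g : A →+* A') (d : ∀ p : ℕ, ↥(⋀[A]^p M) →ₗ[R] ↥(⋀[A]^(p + 1) M)) (hd : DeRham.IsRule δ d)
    (d' : ∀ p : ℕ, ↥(⋀[A']^p M') →ₗ[R'] ↥(⋀[A']^(p + 1) M')) (hd' : DeRham.IsRule δ' d')
    (ψ : ∀ p : ℕ, ↥(⋀[A]^p M) →+ ↥(⋀[A']^p M')) (hψ : DeRham.IsCxMap δ δ' g ψ) (p : ℕ)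
    (x : ↥(⋀[A]^p M)) : ψ (p + 1) (d p x) = d' p (ψ p x) := by
  refine gen_induction δ hδ p (P := fun x => ψ (p + 1) (d p x) = d' p (ψ p x)) ?_ (by simp)
    (fun x y hx hy => by simp_all) x
  intro b₀ b
  rw [hψ, hd', hd]
  have := hψ (p + 1) 1 (Fin.cons b₀ b)
  rw [DeRham.gen, DeRham.gen, one_smul, map_one, one_smul] at this
  convert this using 2
  · congr 1; ext i; refine Fin.cases ?_ ?_ i <;> simp
  · ext i; refine Fin.cases ?_ ?_ i <;> simp

end Groth.Agent.H27DR
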