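import Groth.Agent.H27DR.Basic
import Mathlib

/-! # The Euler homotopy and the formal Poincare lemma -/

set_option autoImplicit false
set_option linter.unusedSectionVars false

noncomputable section

open exteriorPower

namespace Groth.Agent.H27DR

universe v u

variable {R : Type v} {A M : Type u} [CommRing R] [CommRing A] [Algebra R A]
  [AddCommGroup M] [Module A M] [Module R M] [IsScalarTower R A M]

theorem coe_cons {n : ℕ} (w : M) (v : Fin n → M) :
    (ιMulti A (n + 1) (Fin.cons w v) : ExteriorAlgebra A M) =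
      ExteriorAlgebra.ι A w * (ιMulti A n v : ExteriorAlgebra A M) := by
  simp [ExteriorAlgebra.ιMulti_succ_apply, Matrix.vecTail, Function.comp_def]

/-- Left multiplication by a one-form. -/
def lwedge (p : ℕ) (w : M) : ↥(⋀[A]^p M) →ₗ[A] ↥(⋀[A]^(p + 1) M) :=
  LinearMap.codRestrict _ ((LinearMap.mulLeft A (ExteriorAlgebra.ι A w)) ∘ₗ (⋀[A]^p M).subtype) fun x => by
    show ExteriorAlgebra.ι A w * (x : ExteriorAlgebra A M) ∈ _
    rw [ExteriorAlgebra.exteriorPower, pow_succ']
    exact Submodule.mul_mem_mul (LinearMap.mem_range_self _ w) x.2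

theorem coe_lwedge (p : ℕ) (w : M) (x : ↥(⋀[A]^p M)) :
    (lwedge p w x : ExteriorAlgebra A M) = ExteriorAlgebra.ι A w * (x : ExteriorAlgebra A M) := rfl

theorem lwedge_ιMulti (p : ℕ) (w : M) (v : Fin p → M) :
    lwedge p w (ιMulti A p v) = ιMulti A (p + 1) (Fin.cons w v) := Subtype.ext (coe_cons w v).symm

theorem lwedge_comm (p : ℕ) (a b : M) (x : ↥(⋀[A]^p M)) :
    lwedge (p + 1) a (lwedge p b x) = -lwedge (p + 1) b (lwedge p a x) := by
  refine eq_neg_of_add_eq_zero_left (Subtype.ext ?_)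
  rw [Submodule.coe_add, coe_lwedge, coe_lwedge, coe_lwedge, coe_lwedge, ← mul_assoc, ← mul_assoc, ← add_mul,
    ExteriorAlgebra.ι_add_mul_swap, zero_mul]
  rfl

variable (δ : Derivation R A M) (d : ∀ p : ℕ, ↥(⋀[A]^p M) →ₗ[R] ↥(⋀[A]^(p + 1) M))

theorem d_smul (hgen : Submodule.span A (Set.range δ) = ⊤) (hd : DeRham.IsRule δ d) (p : ℕ) (g : A)
    (x : ↥(⋀[A]^p M)) : d p (g • x) = lwedge p (δ g) x + g • d p x := by
  refine gen_induction δ hgen p (P := fun x => d p (g • x) = lwedge p (δ g) x + g • d p x) ?_ (by simp)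
    (fun x y hx hy => by rw [smul_add, map_add, map_add, map_add, smul_add, hx, hy]; abel) x
  intro b₀ b
  rw [DeRham.gen, smul_smul, ← DeRham.gen, hd, ← DeRham.gen, hd, DeRham.gen, map_smul, lwedge_ιMulti]
  refine Subtype.ext ?_
  rw [Submodule.coe_add, Submodule.coe_smul, Submodule.coe_smul, coe_cons, coe_cons, coe_cons, Derivation.leibniz,
    map_add, map_smul, map_smul, add_mul, smul_mul_assoc, smul_mul_assoc, add_comm]

theorem d_lwedge (hgen : Submodule.span A (Set.range δ) = ⊤) (hd : DeRham.IsRule δ d) (p : ℕ) (b : A)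
    (x : ↥(⋀[A]^p M)) : d (p + 1) (lwedge p (δ b) x) = -lwedge (p + 1) (δ b) (d p x) := by
  refine gen_induction δ hgen p (P := fun x => d (p + 1) (lwedge p (δ b) x) = -lwedge (p + 1) (δ b) (d p x))
    ?_ (by simp) (fun x y hx hy => by rw [map_add, map_add, map_add, map_add, hx, hy]; abel) x
  intro b₀ c
  have hcons : (fun i : Fin (p + 1) => δ ((Fin.cons b c : Fin (p + 1) → A) i)) =
      Fin.cons (δ b) (fun i => δ (c i)) := by
    ext i; refine Fin.cases ?_ ?_ i <;> simp
  have h := hd (p + 1) b₀ (Fin.cons b c)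
  rw [DeRham.gen, hcons] at h
  rw [hd, DeRham.gen, map_smul, lwedge_ιMulti, h]
  rw [← lwedge_ιMulti, ← lwedge_ιMulti, ← lwedge_ιMulti, lwedge_comm]

variable (φ : M →ₗ[A] A)

/-- Contraction with a functional on the exterior algebra. -/
def cl : ExteriorAlgebra A M →ₗ[A] ExteriorAlgebra A M :=
  CliffordAlgebra.contractLeft (Q := (0 : QuadraticForm A M)) φ

theorem cl_mem (p : ℕ) (x : ↥(⋀[A]^(p + 1) M)) :
    cl φ (x : ExteriorAlgebra A M) ∈ ⋀[A]^p M := by
  have key : ∀ (q : ℕ) (v : Fin (q + 1) → M), cl φ (ιMulti A (q + 1) v : ExteriorAlgebra A M) ∈ ⋀[A]^q M := by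
    intro q
    induction q with
    | zero =>
      intro v
      rw [← Fin.cons_self_tail v, coe_cons, cl, ExteriorAlgebra.ι, CliffordAlgebra.contractLeft_ι_mul,
        show (ιMulti A 0 (Fin.tail v) : ExteriorAlgebra A M) = 1 by simp, CliffordAlgebra.contractLeft_one,
        mul_zero, sub_zero]
      exact Submodule.smul_mem _ _ (Submodule.one_le.mp (by simp) )
    | succ q ih =>
      intro v
      rw [← Fin.cons_self_tail v, coe_cons, cl, ExteriorAlgebra.ι, CliffordAlgebra.contractLeft_ι_mul]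
      refine sub_mem (Submodule.smul_mem _ _ (ιMulti A (q + 1) (Fin.tail v)).2) ?_
      exact (lwedge q (v 0) ⟨_, ih (Fin.tail v)⟩).2
  have hx : x ∈ Submodule.span A (Set.range (ιMulti A (p + 1) (M := M))) := by rw [ιMulti_span]; trivial
  induction hx using Submodule.span_induction with
  | mem y hy => obtain ⟨v, rfl⟩ := hy; exact key p v
  | zero => simp
  | add y z _ _ hy hz => rw [Submodule.coe_add, map_add]; exact add_mem hy hz
  | smul a y _ hy => rw [Submodule.coe_smul, map_smul]; exact Submodule.smul_mem _ _ hy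

/-- Contraction with a functional. -/
def contract (p : ℕ) : ↥(⋀[A]^(p + 1) M) →ₗ[A] ↥(⋀[A]^p M) :=
  LinearMap.codRestrict _ (cl φ ∘ₗ (⋀[A]^(p + 1) M).subtype) (cl_mem φ p)

theorem coe_contract (p : ℕ) (x : ↥(⋀[A]^(p + 1) M)) :
    (contract φ p x : ExteriorAlgebra A M) = cl φ (x : ExteriorAlgebra A M) := rfl

theorem contract_lwedge (p : ℕ) (w : M) (x : ↥(⋀[A]^(p + 1) M)) :
    contract φ (p + 1) (lwedge (p + 1) w x) = φ w • x - lwedge p w (contract φ p x) := by
  refine Subtype.ext ?_
  rw [coe_contract, coe_lwedge, cl, ExteriorAlgebra.ι, CliffordAlgebra.contractLeft_ι_mul]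
  rfl

theorem contract_cons_zero (w : M) (v : Fin 0 → M) :
    contract φ 0 (ιMulti A 1 (Fin.cons w v)) = φ w • ιMulti A 0 v := by
  refine Subtype.ext ?_
  rw [coe_contract, coe_cons, cl, ExteriorAlgebra.ι, CliffordAlgebra.contractLeft_ι_mul,
    show (ιMulti A 0 v : ExteriorAlgebra A M) = 1 by simp, CliffordAlgebra.contractLeft_one, mul_zero, sub_zero]
  simp

theorem d_gen_zero (hd : DeRham.IsRule δ d) (p : ℕ) (b : Fin p → A) :
    d p (ιMulti A p fun i => δ (b i)) = 0 := by
  have h := hd p 1 b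
  rw [DeRham.gen, one_smul] at h
  rw [h]
  exact AlternatingMap.map_coord_zero _ 0 (by simp)

theorem d_contract (hgen : Submodule.span A (Set.range δ) = ⊤) (hd : DeRham.IsRule δ d) :
    ∀ (p : ℕ) (b : Fin (p + 1) → A), (∀ i, δ (φ (δ (b i))) = δ (b i)) →
      d p (contract φ p (ιMulti A (p + 1) fun i => δ (b i))) =
        ((p + 1 : ℕ) : A) • ιMulti A (p + 1) fun i => δ (b i) := by
  intro p
  induction p with
  | zero =>
    intro b hb
    rw [show (fun i => δ (b i)) = Fin.cons (δ (b 0)) (fun i => δ (Fin.tail b i)) by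
        ext i; refine Fin.cases ?_ ?_ i <;> simp [Fin.tail],
      contract_cons_zero, d_smul δ d hgen hd, d_gen_zero δ d hd, smul_zero, add_zero, hb, lwedge_ιMulti]
    simp
  | succ p ih =>
    intro b hb
    rw [show (fun i => δ (b i)) = Fin.cons (δ (b 0)) (fun i => δ (Fin.tail b i)) by
        ext i; refine Fin.cases ?_ ?_ i <;> simp [Fin.tail]]
    rw [← lwedge_ιMulti, contract_lwedge, map_sub, d_smul δ d hgen hd, d_lwedge δ d hgen hd,
      d_gen_zero δ d hd, smul_zero, add_zero, hb, ih (Fin.tail b) (fun i => hb _), map_smul, sub_neg_eq_add]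
    push_cast
    module

/-- The homotopy operator `d ι + ι d` on monomial forms. -/
theorem homotopy_smul (hgen : Submodule.span A (Set.range δ) = ⊤) (hd : DeRham.IsRule δ d) (p : ℕ)
    (b : Fin (p + 1) → A) (hb : ∀ i, δ (φ (δ (b i))) = δ (b i)) (g : A) :
    d p (contract φ p (g • ιMulti A (p + 1) fun i => δ (b i))) +
      contract φ (p + 1) (d (p + 1) (g • ιMulti A (p + 1) fun i => δ (b i))) =
      (φ (δ g) + ((p + 1 : ℕ) : A) * g) • ιMulti A (p + 1) fun i => δ (b i) := by
  rw [map_smul, d_smul δ d hgen hd, d_smul δ d hgen hd, d_contract δ d φ hgen hd p b hb, d_gen_zero δ d hd,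
    smul_zero, add_zero, contract_lwedge, smul_smul, add_smul, mul_comm g]
  abel

theorem coeff_X_mul_pderiv {k : Type u} [CommRing k] {σ : Type u} (i : σ) (f : MvPowerSeries σ k) (n : σ →₀ ℕ) :
    MvPowerSeries.coeff n (MvPowerSeries.X i * MvPowerSeries.pderiv k i f) =
      (n i : k) * MvPowerSeries.coeff n f := by
  classical
  rw [MvPowerSeries.X_def, MvPowerSeries.coeff_monomial_mul]
  by_cases h : Finsupp.single i 1 ≤ n
  · rw [if_pos h, one_mul, MvPowerSeries.coeff_pderiv, tsub_add_cancel_of_le h]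
    have h1 : 1 ≤ n i := by simpa using h i
    rw [Finsupp.tsub_apply, Finsupp.single_eq_same, Nat.cast_sub h1]
    ring
  · rw [if_neg h]
    rw [Finsupp.single_le_iff, not_le, Nat.lt_one_iff] at h
    rw [h]; simp

theorem formal_poincare (k : Type u) [Field k] [CharZero k] (σ : Type u) [Finite σ]
    (δ : Derivation k (MvPowerSeries σ k) (σ → MvPowerSeries σ k))
    (hδ : ∀ (f : MvPowerSeries σ k) (i : σ), δ f i = MvPowerSeries.pderiv k i f)
    (hgen : Submodule.span (MvPowerSeries σ k) (Set.range δ) = ⊤)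
    (d : ∀ p : ℕ, ↥(⋀[MvPowerSeries σ k]^p (σ → MvPowerSeries σ k)) →ₗ[k]
      ↥(⋀[MvPowerSeries σ k]^(p + 1) (σ → MvPowerSeries σ k)))
    (hd : DeRham.IsDiff δ d) (p : ℕ) :
    DeRham.cocycles d (p + 1) ≤ DeRham.coboundaries d (p + 1) := by
  classical
  haveI := Fintype.ofFinite σ
  letI : LinearOrder σ := linearOrderOfSTO WellOrderingRel
  let A := MvPowerSeries σ k
  let φ : (σ → A) →ₗ[A] A := ∑ i, (MvPowerSeries.X i : A) • LinearMap.proj i
  have hφ : ∀ f : A, φ (δ f) = ∑ i, MvPowerSeries.X i * MvPowerSeries.pderiv k i f := fun f => by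
    simp [φ, hδ]
  have hX : ∀ j : σ, δ (MvPowerSeries.X j) = Pi.single j (1 : A) := fun j => funext fun i => by
    rw [hδ, Pi.single_apply]
    ext n
    rw [MvPowerSeries.coeff_pderiv, MvPowerSeries.coeff_X]
    by_cases hij : i = j
    · subst hij
      rw [if_pos rfl, MvPowerSeries.coeff_one]
      by_cases hn : n = 0
      · subst hn; simp
      · rw [if_neg hn, if_neg (fun h => hn (by
          ext a; have := DFunLike.congr_fun h a
          by_cases ha : a = i
          · subst ha; simp at this; simp [this]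
          · simpa [Ne.symm ha] using this)), zero_mul]
    · rw [if_neg hij, map_zero, if_neg (fun h => by
        have := DFunLike.congr_fun h i
        simp [Finsupp.single_apply, Ne.symm hij] at this), zero_mul]
  have hφX : ∀ j : σ, φ (δ (MvPowerSeries.X j)) = MvPowerSeries.X j := fun j => by
    rw [hX]; simp [φ, Pi.single_apply]
  let b : Module.Basis σ A (σ → A) := Pi.basisFun A σ
  have hexp : ∀ (q : ℕ) (K : Set.powersetCard σ (q + 1)), b.exteriorPower (q + 1) K =
      ιMulti A (q + 1) fun i => δ (MvPowerSeries.X (Set.powersetCard.ofFinEmbEquiv.symm K i)) := fun q K => by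
    rw [exteriorPower.basis_apply, ιMulti_family]
    congr 1
    ext1 i
    simp [b, hX]
  let L : ∀ q, ↥(⋀[A]^(q + 1) (σ → A)) → ↥(⋀[A]^(q + 1) (σ → A)) := fun q x =>
    d q (contract φ q x) + contract φ (q + 1) (d (q + 1) x)
  have hL : ∀ q x (K : Set.powersetCard σ (q + 1)), (b.exteriorPower (q + 1)).repr (L q x) K =
      φ (δ ((b.exteriorPower (q + 1)).repr x K)) + ((q + 1 : ℕ) : A) * (b.exteriorPower (q + 1)).repr x K := by
    intro q x K
    have hx := (b.exteriorPower (q + 1)).sum_repr x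
    have : L q x = ∑ J, (φ (δ ((b.exteriorPower (q + 1)).repr x J)) +
        ((q + 1 : ℕ) : A) * (b.exteriorPower (q + 1)).repr x J) • b.exteriorPower (q + 1) J := by
      conv_lhs => rw [← hx]
      simp only [L, map_sum, ← Finset.sum_add_distrib]
      refine Finset.sum_congr rfl fun J _ => ?_
      rw [hexp]
      exact homotopy_smul δ d φ hgen hd.1 q _ (fun i => by rw [hφX]) _
    rw [this, map_sum, Finsupp.finsetSum_apply, Finset.sum_eq_single K]
    · rw [map_smul, Finsupp.smul_apply, Module.Basis.repr_self, Finsupp.single_eq_same, smul_eq_mul, mul_one]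
    · intro J _ hJ
      rw [map_smul, Finsupp.smul_apply, Module.Basis.repr_self, Finsupp.single_eq_of_ne (Ne.symm hJ), smul_zero]
    · simp
  let w : (σ →₀ ℕ) → ℕ → k := fun n q => (((∑ i, n i) + (q + 1) : ℕ) : k)
  have hw : ∀ n q, w n q ≠ 0 := fun n q => Nat.cast_ne_zero.mpr (by omega)
  have hcoeff : ∀ (f : A) q n, MvPowerSeries.coeff n (φ (δ f) + ((q + 1 : ℕ) : A) * f) =
      w n q * MvPowerSeries.coeff n f := fun f q n => by
    rw [map_add, hφ, map_sum, ← map_natCast (MvPowerSeries.C (σ := σ) (R := k)), MvPowerSeries.coeff_C_mul,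
      Finset.sum_congr rfl fun i _ => coeff_X_mul_pderiv i f n]
    simp only [w, Nat.cast_add, Nat.cast_sum, add_mul, Finset.sum_mul]
  have hdd : ∀ q y, d (q + 1) (d q y) = 0 := fun q y => LinearMap.congr_fun (hd.2 q) y
  intro η hη
  rw [DeRham.cocycles, LinearMap.mem_ker] at hη
  let J : A → A := fun f => fun n => (w n p)⁻¹ * MvPowerSeries.coeff n f
  let η' := ∑ K, J ((b.exteriorPower (p + 1)).repr η K) • b.exteriorPower (p + 1) K
  have hη'K : ∀ K, (b.exteriorPower (p + 1)).repr η' K = J ((b.exteriorPower (p + 1)).repr η K) := fun K => by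
    rw [Module.Basis.repr_sum_self]
  have hLη : L p η' = η := (b.exteriorPower (p + 1)).ext_elem fun K => by
    rw [hL, hη'K]
    refine MvPowerSeries.ext fun n => ?_
    rw [hcoeff]
    show w n p * ((w n p)⁻¹ * MvPowerSeries.coeff n _) = _
    rw [← mul_assoc, mul_inv_cancel₀ (hw n p), one_mul]
  have hclosed : d (p + 1) η' = 0 := by
    have h1 : L (p + 1) (d (p + 1) η') = 0 := by
      rw [← hη, ← hLη]
      simp only [L, map_add, hdd, map_zero, add_zero, zero_add]
    refine (b.exteriorPower (p + 2)).ext_elem fun K => ?_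
    refine MvPowerSeries.ext fun n => ?_
    have h2 := hcoeff ((b.exteriorPower (p + 2)).repr (d (p + 1) η') K) (p + 1) n
    rw [← hL, h1, map_zero, Finsupp.zero_apply, map_zero] at h2
    rw [map_zero, Finsupp.zero_apply, map_zero]
    exact (mul_eq_zero.mp h2.symm).resolve_left (hw n (p + 1))
  refine ⟨contract φ p η', ?_⟩
  rw [← hLη]
  simp [L, hclosed]

end Groth.Agent.H27DR
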