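import Mathlib

/-! # Kernel of `d` on a polynomial ring in characteristic `p` -/

namespace Groth.Agent.H27DR

open MvPolynomial

universe u v

theorem kaehlerD_mvPolynomial_eq_zero_iff (p : ℕ) [hp : Fact p.Prime]
    (R : Type u) [CommRing R] [CharP R p] (σ : Type v) (f : MvPolynomial σ R) :
    KaehlerDifferential.D R (MvPolynomial σ R) f = 0 ↔
      ∃ g : MvPolynomial σ R, f = MvPolynomial.expand p g := by
  classical
  haveI : CharP (MvPolynomial σ R) p := inferInstance
  constructor
  · intro h
    have hcoe : ∀ m ∈ f.support, ∀ i, p ∣ m i := by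
      intro m hm i
      by_contra hdiv
      have h' := congr_arg (MvPolynomial.pderiv (R := R) i).liftKaehlerDifferential h
      rw [Derivation.liftKaehlerDifferential_comp_D, map_zero] at h'
      have hmi : m i ≠ 0 := fun h0 => hdiv (h0 ▸ dvd_zero p)
      have hc := congr_arg (MvPolynomial.coeff (m - Finsupp.single i 1)) h'
      rw [MvPolynomial.coeff_pderiv, MvPolynomial.coeff_zero] at hc
      have e1 : m - Finsupp.single i 1 + Finsupp.single i 1 = m :=
        tsub_add_cancel_of_le (Finsupp.single_le_iff.mpr (Nat.one_le_iff_ne_zero.mpr hmi))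
      have e2 : ((((m - Finsupp.single i 1) : σ →₀ ℕ) i : R) + 1) = (m i : R) := by
        rw [Finsupp.tsub_apply, Finsupp.single_eq_same, Nat.cast_sub (Nat.one_le_iff_ne_zero.mpr hmi)]
        simp
      rw [e1, e2] at hc
      have hu : IsUnit ((m i : ℕ) : R) :=
        (CharP.isUnit_natCast_iff hp.out).mpr hdiv
      exact (MvPolynomial.mem_support_iff.mp hm) (hu.mul_left_eq_zero.mp hc)
    refine ⟨∑ m ∈ f.support, MvPolynomial.monomial (m.mapRange (· / p) (by simp)) (f.coeff m), ?_⟩
    rw [map_sum]
    conv_lhs => rw [f.as_sum]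
    refine Finset.sum_congr rfl fun m hm => ?_
    rw [MvPolynomial.expand_monomial, show p • m.mapRange (· / p) (by simp) = m from
      Finsupp.ext fun i => by simpa using Nat.mul_div_cancel' (hcoe m hm i)]
  · rintro ⟨g, rfl⟩
    induction g using MvPolynomial.induction_on with
    | C a =>
      rw [MvPolynomial.expand_C]
      exact Derivation.map_algebraMap _ a
    | add a b ha hb => simp [map_add, ha, hb]
    | mul_X a i ha =>
      rw [map_mul, MvPolynomial.expand_X, Derivation.leibniz, ha, smul_zero, add_zero,
        Derivation.leibniz_pow, ← Nat.cast_smul_eq_nsmul (MvPolynomial σ R), CharP.cast_eq_zero,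
        zero_smul, smul_zero]

end Groth.Agent.H27DR
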