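import Mathlib
import Groth.Prelude.Def_DeRham
import Groth.Agent.H27DR.Basic

/-! # de Rham cohomology of the multiplicative group -/

namespace Groth.Agent.H27DR

open LaurentPolynomial exteriorPower

universe u

variable (k : Type u) [Field k]

/-- The Euler operator `t d/dt` on Laurent polynomials, as a linear map. -/
noncomputable def euler : LaurentPolynomial k →ₗ[k] LaurentPolynomial k where
  toFun f := .ofCoeff (Finsupp.onFinset f.coeff.support (fun n => (n : k) * f.coeff n)
    (fun n hn => Finsupp.mem_support_iff.mpr (right_ne_zero_of_mul hn)))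
  map_add' f g := by ext n; simp [mul_add]
  map_smul' c f := by ext n; simp [mul_left_comm]

@[simp] theorem euler_coeff (f : LaurentPolynomial k) (n : ℤ) :
    (euler k f).coeff n = (n : k) * f.coeff n := by simp [euler]

theorem euler_T (n : ℤ) : euler k (T n) = (n : k) • T n := by
  ext m
  by_cases h : n = m <;> simp [h]

/-- The Euler derivation. -/
noncomputable def eulerDer : Derivation k (LaurentPolynomial k) (LaurentPolynomial k) :=
  Derivation.mk' (euler k) (by
    intro f g
    induction f using LaurentPolynomial.induction_on' with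
    | add p q hp hq => simp only [add_mul, map_add, hp, hq, add_smul, smul_add]; abel
    | C_mul_T n a =>
      induction g using LaurentPolynomial.induction_on' with
      | add p q hp hq => simp only [mul_add, map_add, hp, hq, add_smul, smul_add]; abel
      | C_mul_T m b =>
        simp only [LaurentPolynomial.C_eq_algebraMap, ← Algebra.smul_def, smul_mul_assoc,
          mul_smul_comm, map_smul, ← T_add, euler_T, smul_eq_mul, Int.cast_add, add_smul]
        rw [add_comm m n]
        module)

@[simp] theorem eulerDer_apply (f : LaurentPolynomial k) : eulerDer k f = euler k f := rfl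

/-- The linear map on differentials induced by the Euler derivation: `g dt/t ↦ g`. -/
noncomputable def eulerOmega : Ω[LaurentPolynomial k⁄k] →ₗ[LaurentPolynomial k] LaurentPolynomial k :=
  (eulerDer k).liftKaehlerDifferential

theorem eulerOmega_D (f : LaurentPolynomial k) :
    eulerOmega k (KaehlerDifferential.D k _ f) = euler k f :=
  (eulerDer k).liftKaehlerDifferential_comp_D f

/-- The generator `dt/t`. -/
noncomputable def dlogT : Ω[LaurentPolynomial k⁄k] :=
  (T (-1) : LaurentPolynomial k) • KaehlerDifferential.D k _ (T 1 : LaurentPolynomial k)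

theorem D_T (n : ℤ) : KaehlerDifferential.D k _ (T n : LaurentPolynomial k) =
    ((n : k) • (T n : LaurentPolynomial k)) • dlogT k := by
  set D := KaehlerDifferential.D k (LaurentPolynomial k)
  have step : ∀ m : ℤ, D (T (m + 1)) = (T m : LaurentPolynomial k) • D (T 1) + (T 1 : LaurentPolynomial k) • D (T m) :=
    fun m => by rw [T_add, D.leibniz]
  have h1 : D (T 1) = (T 1 : LaurentPolynomial k) • dlogT k := by
    rw [dlogT, smul_smul, ← T_add]; simp [D]
  induction n using Int.induction_on with
  | zero => simp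
  | succ i hi =>
    rw [step, hi, h1, smul_smul, smul_smul, ← T_add, mul_smul_comm, ← T_add, add_comm 1 (i : ℤ),
      ← add_smul]
    congr 1
    push_cast
    module
  | pred i hi =>
    have := step (-(i : ℤ) - 1)
    rw [sub_add_cancel, hi, h1] at this
    have h2 : (T (-1) : LaurentPolynomial k) • ((T 1 : LaurentPolynomial k) • D (T (-(i : ℤ) - 1))) =
        D (T (-(i : ℤ) - 1)) := by rw [smul_smul, ← T_add]; simp
    rw [eq_comm, ← eq_sub_iff_add_eq'] at this
    rw [← h2, this, smul_sub, smul_smul, smul_smul, smul_smul, mul_smul_comm, ← T_add, ← T_add, ← T_add,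
      ← sub_smul]
    congr 1
    rw [show (-(1 : ℤ)) + (-(i : ℤ) - 1) + 1 = -(i : ℤ) - 1 by ring,
      show (-(1 : ℤ)) + -(i : ℤ) = -(i : ℤ) - 1 by ring]
    push_cast
    module

theorem eulerOmega_dlogT : eulerOmega k (dlogT k) = 1 := by
  rw [dlogT, map_smul, eulerOmega_D, euler_T, Int.cast_one, one_smul, smul_eq_mul, ← T_add]
  simp

theorem D_eq_smul_dlogT (f : LaurentPolynomial k) :
    KaehlerDifferential.D k _ f = euler k f • dlogT k := by
  induction f using LaurentPolynomial.induction_on' with
  | add p q hp hq => rw [map_add, map_add, hp, hq, add_smul]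
  | C_mul_T n a =>
    rw [LaurentPolynomial.C_eq_algebraMap, ← Algebra.smul_def, Derivation.map_smul, map_smul, euler_T,
      D_T, smul_assoc, smul_assoc, smul_assoc]

theorem eq_smul_dlogT (ω : Ω[LaurentPolynomial k⁄k]) : ω = eulerOmega k ω • dlogT k := by
  have hω : ω ∈ Submodule.span (LaurentPolynomial k) (Set.range (KaehlerDifferential.D k (LaurentPolynomial k))) := by
    rw [kaehler_span]; trivial
  induction hω using Submodule.span_induction with
  | mem x hx => obtain ⟨f, rfl⟩ := hx; rw [eulerOmega_D, ← D_eq_smul_dlogT]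
  | zero => simp
  | add x y _ _ hx hy => rw [map_add, add_smul, ← hx, ← hy]
  | smul a x _ hx => rw [map_smul, smul_eq_mul, mul_smul, ← hx]

theorem laurent_D_eq_zero_iff [CharZero k] (f : LaurentPolynomial k) :
    KaehlerDifferential.D k (LaurentPolynomial k) f = 0 ↔
      f ∈ Set.range (algebraMap k (LaurentPolynomial k)) := by
  refine ⟨fun h => ⟨f.coeff 0, ?_⟩, ?_⟩
  · have h' : euler k f = 0 := by rw [← eulerOmega_D, h, map_zero]
    ext n
    rw [← LaurentPolynomial.C_eq_algebraMap, LaurentPolynomial.C_apply]
    by_cases hn : n = 0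
    · subst hn; simp
    · have := congr_arg (fun g : LaurentPolynomial k => g.coeff n) h'
      simp [hn] at this
      rw [if_neg hn, this]
  · rintro ⟨c, rfl⟩; exact Derivation.map_algebraMap _ c

theorem subsingleton_exteriorPower_two (i : ℕ) :
    Subsingleton ↥(⋀[LaurentPolynomial k]^(i + 2) (Ω[LaurentPolynomial k⁄k])) := by
  refine subsingleton_of_forall_eq 0 fun x => ?_
  refine gen_induction (KaehlerDifferential.D k _) (kaehler_span k _) (i + 2) (P := fun x => x = 0)
    ?_ rfl (fun x y hx hy => by simp [hx, hy]) x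
  intro b₀ b
  classical
  rw [DeRham.gen]
  have : ιMulti (LaurentPolynomial k) (i + 2) (fun j => KaehlerDifferential.D k (LaurentPolynomial k) (b j)) = 0 := by
    simp only [D_eq_smul_dlogT]
    rw [AlternatingMap.map_smul_univ (ιMulti (LaurentPolynomial k) (i + 2)) (fun j => euler k (b j)) (fun _ => dlogT k),
      (ιMulti (LaurentPolynomial k) (i + 2)).map_eq_zero_of_eq (fun _ => dlogT k) (i := 0) (j := 1) rfl
        (by simp), smul_zero]
  rw [this, smul_zero]

/-- `⋀¹ Ω ≅ k[t,t⁻¹]` through the Euler map. -/
noncomputable def eulerOne :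
    ↥(⋀[LaurentPolynomial k]^1 (Ω[LaurentPolynomial k⁄k])) →ₗ[LaurentPolynomial k] LaurentPolynomial k :=
  eulerOmega k ∘ₗ (exteriorPower.oneEquiv _ _).toLinearMap

theorem eulerOne_injective : Function.Injective (eulerOne k) := by
  intro x y h
  apply (exteriorPower.oneEquiv _ _).injective
  rw [eq_smul_dlogT k (exteriorPower.oneEquiv _ _ x), eq_smul_dlogT k (exteriorPower.oneEquiv _ _ y)]
  exact congr_arg (· • dlogT k) h

theorem eulerOne_gen (a b : LaurentPolynomial k) :
    eulerOne k (DeRham.gen (KaehlerDifferential.D k _) 1 a (fun _ => b)) = a * euler k b := by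
  rw [DeRham.gen, map_smul, eulerOne, LinearMap.comp_apply, LinearEquiv.coe_coe,
    exteriorPower.oneEquiv_ιMulti, eulerOmega_D, smul_eq_mul]

theorem laurent_H1 [CharZero k]
    (d : ∀ p : ℕ, ↥(⋀[LaurentPolynomial k]^p (Ω[LaurentPolynomial k⁄k])) →ₗ[k]
      ↥(⋀[LaurentPolynomial k]^(p + 1) (Ω[LaurentPolynomial k⁄k])))
    (hd : DeRham.IsRule (KaehlerDifferential.D k (LaurentPolynomial k)) d) :
    DeRham.cocycles d 1 = ⊤ ∧
    IsCompl (DeRham.coboundaries d 1)
      (Submodule.span k {DeRham.gen (KaehlerDifferential.D k (LaurentPolynomial k)) 1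
        (LaurentPolynomial.T (-1)) (fun _ => LaurentPolynomial.T 1)}) ∧
    DeRham.gen (KaehlerDifferential.D k (LaurentPolynomial k)) 1
        (LaurentPolynomial.T (-1)) (fun _ => LaurentPolynomial.T 1) ∉ DeRham.coboundaries d 1 ∧
    ∀ i : ℕ, DeRham.cocycles d (i + 2) ≤ DeRham.coboundaries d (i + 2) := by
  set g := DeRham.gen (KaehlerDifferential.D k (LaurentPolynomial k)) 1
    (LaurentPolynomial.T (-1)) (fun _ => LaurentPolynomial.T 1) with hg
  have hg1 : eulerOne k g = 1 := by
    rw [hg, eulerOne_gen, euler_T, Int.cast_one, one_smul, ← T_add]; simp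
  have hd0 : ∀ x : ↥(⋀[LaurentPolynomial k]^0 (Ω[LaurentPolynomial k⁄k])),
      eulerOne k (d 0 x) = euler k (exteriorPower.zeroEquiv _ _ x) := by
    intro x
    refine gen_induction (KaehlerDifferential.D k _) (kaehler_span k _) 0
      (P := fun x => eulerOne k (d 0 x) = euler k (exteriorPower.zeroEquiv _ _ x)) ?_ (by simp)
      (fun x y hx hy => by simp [hx, hy]) x
    intro b₀ b
    rw [hd 0 b₀ b, eulerOne, LinearMap.comp_apply, LinearEquiv.coe_coe, exteriorPower.oneEquiv_ιMulti,
      Fin.cons_zero, eulerOmega_D, DeRham.gen, map_smul, exteriorPower.zeroEquiv_ιMulti, smul_eq_mul,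
      mul_one]
  have himg : ∀ x ∈ DeRham.coboundaries d 1, (eulerOne k x).coeff 0 = 0 := by
    rintro _ ⟨y, rfl⟩
    rw [hd0, euler_coeff]; simp
  have hnot : g ∉ DeRham.coboundaries d 1 := fun h => by
    have := himg g h; rw [hg1] at this
    rw [← map_one (C (R := k)), LaurentPolynomial.C_apply, if_pos rfl] at this
    exact one_ne_zero this
  haveI := subsingleton_exteriorPower_two k
  refine ⟨?_, ⟨?_, ?_⟩, hnot, fun i x _ => ?_⟩
  · rw [eq_top_iff]
    intro x _
    exact @Subsingleton.elim _ (subsingleton_exteriorPower_two k 0) _ _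
  · rw [Submodule.disjoint_def]
    intro x hx hx'
    obtain ⟨c, rfl⟩ := Submodule.mem_span_singleton.mp hx'
    by_contra hne
    have hc : c ≠ 0 := fun h => hne (by simp [h])
    exact hnot (by simpa [hc] using (DeRham.coboundaries d 1).smul_mem c⁻¹ hx)
  · rw [codisjoint_iff, eq_top_iff]
    intro x _
    let f := eulerOne k x
    let F : LaurentPolynomial k := .ofCoeff (Finsupp.onFinset f.coeff.support (fun n => (n : k)⁻¹ * f.coeff n)
      (fun n hn => Finsupp.mem_support_iff.mpr (right_ne_zero_of_mul hn)))
    have hx : x = d 0 ((exteriorPower.zeroEquiv (LaurentPolynomial k) _).symm F) + (f.coeff 0) • g := by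
      apply eulerOne_injective k
      rw [map_add, hd0, LinearEquiv.apply_symm_apply, LinearMap.map_smul_of_tower, hg1]
      ext n
      rw [← map_one (C (R := k))]
      simp only [AddMonoidAlgebra.coeff_add, Finsupp.add_apply, AddMonoidAlgebra.coeff_smul,
        Finsupp.smul_apply, euler_coeff, LaurentPolynomial.C_apply, smul_eq_mul]
      simp only [F, AddMonoidAlgebra.coeff_ofCoeff, Finsupp.onFinset_apply]
      by_cases hn : n = 0
      · subst hn; simp [f]
      · rw [if_neg hn, mul_zero, add_zero, ← mul_assoc, mul_inv_cancel₀ (Int.cast_ne_zero.mpr hn), one_mul]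
    rw [hx]
    exact Submodule.add_mem_sup ⟨_, rfl⟩ (Submodule.smul_mem _ _ (Submodule.mem_span_singleton_self g))
  · rw [@Subsingleton.elim _ (subsingleton_exteriorPower_two k i) x 0]
    exact zero_mem _

end Groth.Agent.H27DR
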