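import Mathlib

/-! # The naive de Rham complex of the node `k[X,Y]/(XY)` -/

namespace Groth.Agent.H27DR

open MvPolynomial

universe u

variable (k : Type u) [Field k]

/-- The ideal of the node. -/
noncomputable abbrev nodeI : Ideal (MvPolynomial (Fin 2) k) :=
  Ideal.span {(MvPolynomial.X 0 * MvPolynomial.X 1 : MvPolynomial (Fin 2) k)}

/-- The coordinate ring of the node. -/
abbrev NodeA := MvPolynomial (Fin 2) k ⧸ nodeI k

/-- Restriction to the branch `X_{1-i} = 0`. -/
noncomputable def branch (i : Fin 2) : NodeA k →ₐ[k] Polynomial k :=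
  Ideal.Quotient.liftₐ _ (aeval (fun j => if j = i then Polynomial.X else 0)) (fun a ha => by
    obtain ⟨c, rfl⟩ := Ideal.mem_span_singleton'.mp ha
    fin_cases i <;> simp)

theorem branch_mk (i : Fin 2) (Q : MvPolynomial (Fin 2) k) :
    branch k i (Ideal.Quotient.mk _ Q) = aeval (fun j => if j = i then Polynomial.X else 0) Q := rfl

theorem branch_injective {Q : NodeA k} (h : ∀ i, branch k i Q = 0) : Q = 0 := by
  obtain ⟨Q, rfl⟩ := Ideal.Quotient.mk_surjective Q
  have key : ∀ (i j : Fin 2), i ≠ j → ∀ R : MvPolynomial (Fin 2) k,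
      R - Polynomial.aeval (X i : MvPolynomial (Fin 2) k)
        (aeval (fun l => if l = i then Polynomial.X else 0) R : Polynomial k) ∈ Ideal.span {X j} := by
    intro i j hij R
    have : (Ideal.Quotient.mkₐ k (Ideal.span {(X j : MvPolynomial (Fin 2) k)})) =
        ((Ideal.Quotient.mkₐ k _).comp (Polynomial.aeval (X i : MvPolynomial (Fin 2) k))).comp
          (aeval (fun l => if l = i then Polynomial.X else 0)) := by
      apply MvPolynomial.algHom_ext
      intro l
      by_cases hl : l = i
      · simp [hl]
      · have : l = j := by omega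
        subst this
        simp [hl, Ideal.Quotient.eq_zero_iff_mem, Ideal.mem_span_singleton]
    exact Ideal.Quotient.eq.mp (DFunLike.congr_fun this R)
  have h0 := h 0; have h1 := h 1
  rw [branch_mk] at h0 h1
  have hm := key 0 1 (by decide) Q
  rw [h0, map_zero, sub_zero, Ideal.mem_span_singleton'] at hm
  obtain ⟨R, rfl⟩ := hm
  have hR : aeval (fun l : Fin 2 => if l = 1 then (Polynomial.X : Polynomial k) else 0) R = 0 := by
    simpa using h1
  have hm := key 1 0 (by decide) R
  rw [hR, map_zero, sub_zero, Ideal.mem_span_singleton'] at hm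
  obtain ⟨T, rfl⟩ := hm
  rw [Ideal.Quotient.eq_zero_iff_mem]
  exact Ideal.mem_span_singleton'.mpr ⟨T, by ring⟩

theorem derivative_branch (P : NodeA k) (i : Fin 2)
    (h : KaehlerDifferential.D k (NodeA k) P = 0) : Polynomial.derivative (branch k i P) = 0 := by
  letI : Algebra (NodeA k) (Polynomial k) := (branch k i).toRingHom.toAlgebra
  haveI : IsScalarTower k (NodeA k) (Polynomial k) := IsScalarTower.of_algHom (branch k i)
  have h' := congr_arg (KaehlerDifferential.map k k (NodeA k) (Polynomial k)) h
  rw [KaehlerDifferential.map_D, map_zero] at h'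
  have h2 := congr_arg (Polynomial.derivative' (R := k)).liftKaehlerDifferential h'
  rw [Derivation.liftKaehlerDifferential_comp_D, map_zero] at h2
  exact h2

theorem const_branch_zero (P : NodeA k) (i : Fin 2) :
    (branch k i P).coeff 0 = Ideal.Quotient.lift (nodeI k) (MvPolynomial.constantCoeff)
      (fun a ha => by
        obtain ⟨c, rfl⟩ := Ideal.mem_span_singleton'.mp ha; simp) P := by
  obtain ⟨Q, rfl⟩ := Ideal.Quotient.mk_surjective P
  rw [branch_mk, Ideal.Quotient.lift_mk]
  induction Q using MvPolynomial.induction_on with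
  | C a => simp
  | add p q hp hq => simp [hp, hq]
  | mul_X p l hp => by_cases hl : l = i <;> simp [hl]

theorem const_of_derivative_branch [CharZero k] (P : NodeA k)
    (h : ∀ i, Polynomial.derivative (branch k i P) = 0) :
    P ∈ Set.range (algebraMap k (NodeA k)) := by
  refine ⟨(branch k 0 P).coeff 0, ?_⟩
  refine (sub_eq_zero.mp (branch_injective k (fun i => ?_))).symm
  rw [map_sub, sub_eq_zero, AlgHom.commutes]
  conv_lhs => rw [Polynomial.eq_C_of_derivative_eq_zero (h i), const_branch_zero]
  rw [const_branch_zero]; rfl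

theorem node_D_eq_zero_iff [CharZero k] (P : NodeA k) :
    KaehlerDifferential.D k (NodeA k) P = 0 ↔ P ∈ Set.range (algebraMap k (NodeA k)) := by
  refine ⟨fun h => const_of_derivative_branch k P (fun i => derivative_branch k P i h), ?_⟩
  rintro ⟨c, rfl⟩; exact Derivation.map_algebraMap _ c

/-- Relations submodule for the test receptacle. -/
noncomputable def nodeRel : Submodule (NodeA k) (NodeA k × NodeA k) :=
  Submodule.span (NodeA k) {(Ideal.Quotient.mk (nodeI k) (X 1), Ideal.Quotient.mk (nodeI k) (X 0))}

/-- The derivation of `k[X,Y]` into the test receptacle. -/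
noncomputable def nodeDer₀ : Derivation k (MvPolynomial (Fin 2) k) ((NodeA k × NodeA k) ⧸ nodeRel k) :=
  MvPolynomial.mkDerivation k
    (fun i => (nodeRel k).mkQ (if i = 0 then (1, 0) else (0, 1)))

theorem nodeDer₀_eq_zero (a : MvPolynomial (Fin 2) k) (ha : a ∈ nodeI k) : nodeDer₀ k a = 0 := by
  obtain ⟨c, rfl⟩ := Ideal.mem_span_singleton'.mp ha
  rw [Derivation.leibniz]
  have h1 : (X 0 * X 1 : MvPolynomial (Fin 2) k) • nodeDer₀ k c = 0 := by
    rw [← IsScalarTower.algebraMap_smul (NodeA k), Ideal.Quotient.algebraMap_eq,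
      Ideal.Quotient.eq_zero_iff_mem.mpr (show (X 0 * X 1 : MvPolynomial (Fin 2) k) ∈ nodeI k from Ideal.mem_span_singleton_self _)]
    exact zero_smul (NodeA k) (nodeDer₀ k c)
  have h2 : nodeDer₀ k (X 0 * X 1) = 0 := by
    simp only [nodeDer₀, Derivation.leibniz, MvPolynomial.mkDerivation_X, Submodule.mkQ_apply,
      ← IsScalarTower.algebraMap_smul (NodeA k) (X _ : MvPolynomial (Fin 2) k),
      Ideal.Quotient.algebraMap_eq, ← Submodule.Quotient.mk_smul, ← Submodule.Quotient.mk_add,
      Submodule.Quotient.mk_eq_zero]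
    have : ((Ideal.Quotient.mk (nodeI k) (X 0), Ideal.Quotient.mk (nodeI k) (X 1)) : NodeA k × NodeA k).swap ∈
        nodeRel k := Submodule.subset_span rfl
    simpa [add_comm] using this
  rw [h1, h2, smul_zero, add_zero]

/-- The linear map descended to the node. -/
noncomputable def nodeLin : NodeA k →ₗ[k] (NodeA k × NodeA k) ⧸ nodeRel k where
  toFun := Quotient.lift (fun a => nodeDer₀ k a) (fun a b hab => by
    rw [← sub_eq_zero, ← map_sub]
    exact nodeDer₀_eq_zero k _ ((Submodule.quotientRel_def _).mp hab))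
  map_add' x y := by
    obtain ⟨a, rfl⟩ := Ideal.Quotient.mk_surjective x
    obtain ⟨b, rfl⟩ := Ideal.Quotient.mk_surjective y
    exact map_add (nodeDer₀ k) a b
  map_smul' c x := by
    obtain ⟨a, rfl⟩ := Ideal.Quotient.mk_surjective x
    exact Derivation.map_smul (nodeDer₀ k) c a

theorem nodeLin_mk (a : MvPolynomial (Fin 2) k) :
    nodeLin k (Ideal.Quotient.mk (nodeI k) a) = nodeDer₀ k a := rfl

/-- The derivation of the node into the test receptacle. -/
noncomputable def nodeDer : Derivation k (NodeA k) ((NodeA k × NodeA k) ⧸ nodeRel k) :=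
  Derivation.mk' (nodeLin k) (fun x y => by
    obtain ⟨a, rfl⟩ := Ideal.Quotient.mk_surjective x
    obtain ⟨b, rfl⟩ := Ideal.Quotient.mk_surjective y
    rw [← map_mul, nodeLin_mk, nodeLin_mk, nodeLin_mk, Derivation.leibniz,
      ← IsScalarTower.algebraMap_smul (NodeA k) a, ← IsScalarTower.algebraMap_smul (NodeA k) b]
    rfl)

theorem node_not_surjective [CharZero k] :
    ¬ Function.Surjective (KaehlerDifferential.D k (NodeA k)) := by
  intro hsur
  obtain ⟨P, hP⟩ := hsur (Ideal.Quotient.mk (nodeI k) (X 0) •
    KaehlerDifferential.D k (NodeA k) (Ideal.Quotient.mk (nodeI k) (X 1)))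
  have hder : ∀ i, Polynomial.derivative (branch k i P) = 0 := by
    intro i
    letI : Algebra (NodeA k) (Polynomial k) := (branch k i).toRingHom.toAlgebra
    haveI : IsScalarTower k (NodeA k) (Polynomial k) := IsScalarTower.of_algHom (branch k i)
    have h' := congr_arg (fun ω => (Polynomial.derivative' (R := k)).liftKaehlerDifferential
      (KaehlerDifferential.map k k (NodeA k) (Polynomial k) ω)) hP
    simp only [map_smul, KaehlerDifferential.map_D, Derivation.liftKaehlerDifferential_comp_D] at h'
    rw [← IsScalarTower.algebraMap_smul (Polynomial k)] at h'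
    rw [show Polynomial.derivative (branch k i P) = Polynomial.derivative' (algebraMap (NodeA k) (Polynomial k) P)
      from rfl, h', map_smul, Derivation.liftKaehlerDifferential_comp_D, RingHom.algebraMap_toAlgebra]
    show branch k i (Ideal.Quotient.mk (nodeI k) (X 0)) •
      Polynomial.derivative (branch k i (Ideal.Quotient.mk (nodeI k) (X 1))) = 0
    fin_cases i <;> simp [branch_mk]
  obtain ⟨c, rfl⟩ := const_of_derivative_branch k P hder
  rw [Derivation.map_algebraMap] at hP
  have h := congr_arg (nodeDer k).liftKaehlerDifferential hP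
  rw [map_zero, map_smul, Derivation.liftKaehlerDifferential_comp_D] at h
  have h' : (nodeRel k).mkQ (0, Ideal.Quotient.mk (nodeI k) (X 0)) = 0 := by
    rw [h]
    change _ = Ideal.Quotient.mk (nodeI k) (X 0) • nodeDer₀ k (X 1)
    rw [nodeDer₀, MvPolynomial.mkDerivation_X, ← map_smul]
    congr 1; simp
  rw [Submodule.mkQ_apply, Submodule.Quotient.mk_eq_zero, nodeRel, Submodule.mem_span_singleton] at h'
  obtain ⟨a, ha⟩ := h'
  simp only [Prod.smul_mk, Prod.mk.injEq, smul_eq_mul] at ha
  have e1 := congr_arg (branch k 1) ha.1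
  have e0 := congr_arg (branch k 0) ha.2
  simp [branch_mk] at e1 e0
  have c1 : (branch k 1 a).coeff 0 = 0 := by simp [e1]
  rw [const_branch_zero] at c1
  have c0 : (branch k 0 a).coeff 0 = 1 := by simp [e0]
  rw [const_branch_zero, c1] at c0
  exact zero_ne_one c0

end Groth.Agent.H27DR
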