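import Groth.Agent.H27DR.Euler

/-! # Homotopy invariance of de Rham cohomology in characteristic zero -/

set_option autoImplicit false
set_option linter.unusedSectionVars false

noncomputable section

open exteriorPower Polynomial

universe u

namespace Groth.Agent.H27DR.PolyHom

variable {R A : Type u} [CommRing R] [CommRing A] [Algebra R A]

theorem exists_retraction : ∃ ε : ∀ p : ℕ, ↥(⋀[A[X]]^p (Ω[A[X]⁄R])) →+ ↥(⋀[A]^p (Ω[A⁄R])),
    DeRham.IsCxMap (KaehlerDifferential.D R A[X]) (KaehlerDifferential.D R A) (evalRingHom (0 : A)) ε := by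
  letI : Algebra A[X] A := (evalRingHom (0 : A)).toAlgebra
  haveI : IsScalarTower R A[X] A := IsScalarTower.of_algebraMap_eq fun r => by
    show algebraMap R A r = eval 0 (algebraMap R A[X] r)
    rw [Polynomial.algebraMap_apply, eval_C]
  exact Groth.Agent.H27DR.exists_isCxMap (R := R) (S := R) (A := A[X]) (B := A)

variable (R A) in
/-- The Euler derivation in the variable. -/
def eulerX : Derivation R A[X] A[X] := ((X : A[X]) • (derivative' : Derivation A A[X] A[X])).restrictScalars R

variable (R A) in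
/-- Its functional. -/
def phiX : Ω[A[X]⁄R] →ₗ[A[X]] A[X] := (eulerX R A).liftKaehlerDifferential

theorem phiX_D (f : A[X]) : phiX R A (KaehlerDifferential.D R A[X] f) = X * derivative f := by
  rw [phiX, Derivation.liftKaehlerDifferential_comp_D]
  rfl

local notation "δT" => KaehlerDifferential.D R A[X]

theorem phiX_C (a : A) : phiX R A (δT (C a)) = 0 := by rw [phiX_D, derivative_C, mul_zero]

theorem phiX_monomial (a : A) (n : ℕ) : phiX R A (δT (monomial n a)) = (n : A[X]) * monomial n a := by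
  rw [phiX_D, derivative_monomial]
  rcases n with - | n
  · simp
  · rw [Nat.add_sub_cancel, ← monomial_one_one_eq_X, monomial_mul_monomial, one_mul, add_comm 1 n,
      ← map_natCast (Polynomial.C (R := A)), C_mul_monomial, mul_comm]

theorem span_sep : Submodule.span A[X] (insert (δT (X : A[X])) (Set.range fun a : A => δT (C a))) = ⊤ := by
  rw [eq_top_iff, ← KaehlerDifferential.span_range_derivation R A[X], Submodule.span_le]
  rintro _ ⟨f, rfl⟩
  induction f using Polynomial.induction_on with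
  | C a => exact Submodule.subset_span (Set.mem_insert_of_mem _ ⟨a, rfl⟩)
  | add f g hf hg => rw [map_add]; exact add_mem hf hg
  | monomial n a h =>
    rw [pow_succ, ← mul_assoc, Derivation.leibniz]
    exact add_mem (Submodule.smul_mem _ _ (Submodule.subset_span (Set.mem_insert _ _))) (Submodule.smul_mem _ _ h)

theorem contract_C : ∀ (q : ℕ) (b : Fin (q + 1) → A),
    contract (phiX R A) q (ιMulti A[X] (q + 1) fun i => δT (C (b i))) = 0 := by
  intro q
  induction q with
  | zero =>
    intro b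
    rw [show (fun i => δT (C (b i))) = Fin.cons (δT (C (b 0))) (fun i => δT (C (Fin.tail b i))) by
      ext i; refine Fin.cases ?_ ?_ i <;> simp [Fin.tail], contract_cons_zero, phiX_C, zero_smul]
  | succ q ih =>
    intro b
    rw [show (fun i => δT (C (b i))) = Fin.cons (δT (C (b 0))) (fun i => δT (C (Fin.tail b i))) by
      ext i; refine Fin.cases ?_ ?_ i <;> simp [Fin.tail], ← lwedge_ιMulti, contract_lwedge, phiX_C, zero_smul,
      ih, map_zero, sub_zero]

theorem contract_X (q : ℕ) (b : Fin q → A) :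
    contract (phiX R A) q (ιMulti A[X] (q + 1) (Fin.cons (δT X) fun i => δT (C (b i)))) =
      (X : A[X]) • ιMulti A[X] q fun i => δT (C (b i)) := by
  have hX : phiX R A (δT X) = X := by rw [phiX_D, derivative_X, mul_one]
  rcases q with - | q
  · rw [contract_cons_zero, hX]
  · rw [← lwedge_ιMulti, contract_lwedge, hX, contract_C, map_zero, sub_zero]

variable (d' : ∀ p : ℕ, ↥(⋀[A[X]]^p (Ω[A[X]⁄R])) →ₗ[R] ↥(⋀[A[X]]^(p + 1) (Ω[A[X]⁄R])))

/-- The Lie derivative along the Euler field. -/
def lie (q : ℕ) : ↥(⋀[A[X]]^(q + 1) (Ω[A[X]⁄R])) →ₗ[R] ↥(⋀[A[X]]^(q + 1) (Ω[A[X]⁄R])) :=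
  d' q ∘ₗ (contract (phiX R A) q).restrictScalars R + (contract (phiX R A) (q + 1)).restrictScalars R ∘ₗ d' (q + 1)

theorem lie_C (hd' : DeRham.IsRule δT d') (q : ℕ) (g : A[X]) (b : Fin (q + 1) → A) :
    lie d' q (g • ιMulti A[X] (q + 1) fun i => δT (C (b i))) =
      phiX R A (δT g) • ιMulti A[X] (q + 1) fun i => δT (C (b i)) := by
  have hspan := kaehler_span R A[X]
  rw [lie, LinearMap.add_apply, LinearMap.comp_apply, LinearMap.comp_apply, LinearMap.restrictScalars_apply,
    LinearMap.restrictScalars_apply, map_smul, contract_C, smul_zero, map_zero, zero_add,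
    d_smul δT d' hspan hd', d_gen_zero δT d' hd', smul_zero, add_zero, contract_lwedge, contract_C, map_zero,
    sub_zero]

theorem lie_X (hd' : DeRham.IsRule δT d') (q : ℕ) (g : A[X]) (b : Fin q → A) :
    lie d' q (g • ιMulti A[X] (q + 1) (Fin.cons (δT X) fun i => δT (C (b i)))) =
      (phiX R A (δT g) + g) • ιMulti A[X] (q + 1) (Fin.cons (δT X) fun i => δT (C (b i))) := by
  have hspan := kaehler_span R A[X]
  have hW : d' (q + 1) (ιMulti A[X] (q + 1) (Fin.cons (δT X) fun i => δT (C (b i)))) = 0 := by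
    rw [show (Fin.cons (δT X) fun i => δT (C (b i)) : Fin (q + 1) → Ω[A[X]⁄R]) =
      fun i => δT ((Fin.cons X fun i => C (b i) : Fin (q + 1) → A[X]) i) by
        ext i; refine Fin.cases ?_ ?_ i <;> simp]
    exact d_gen_zero δT d' hd' _ _
  rw [lie, LinearMap.add_apply, LinearMap.comp_apply, LinearMap.comp_apply, LinearMap.restrictScalars_apply,
    LinearMap.restrictScalars_apply, map_smul, contract_X, smul_smul, d_smul δT d' hspan hd',
    d_gen_zero δT d' hd', smul_zero, add_zero, d_smul δT d' hspan hd', hW, smul_zero, add_zero,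
    contract_lwedge, contract_X, map_smul]
  refine Subtype.ext ?_
  simp only [Submodule.coe_add, Submodule.coe_smul, AddSubgroupClass.coe_sub, coe_lwedge, coe_cons,
    Derivation.leibniz, map_add, map_smul, add_mul, smul_mul_assoc]
  module

theorem eigen_indep {M : Type u} [AddCommGroup M] [Module A M] (L : M →+ M) (hdiv : ∀ m : ℤ, m ≠ 0 → ∀ v : M, m • v = 0 → v = 0)
    (s : Finset ℕ) (v : ℕ → M) (hL : ∀ n ∈ s, L (v n) = (n + 1 : ℤ) • v n) (h : ∑ n ∈ s, v n = 0) :
    ∀ n ∈ s, v n = 0 := by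
  induction s using Finset.induction_on generalizing v with
  | empty => simp
  | insert a s ha ih =>
    have hL' : ∀ n ∈ s, L (v n) = (n + 1 : ℤ) • v n := fun n hn => hL n (Finset.mem_insert_of_mem hn)
    have key : ∀ n ∈ s, ((n : ℤ) - a) • v n = 0 := by
      refine ih (fun n => ((n : ℤ) - a) • v n) (fun n hn => by rw [map_zsmul, hL' n hn, smul_comm]) ?_
      have h1 : L (∑ n ∈ insert a s, v n) = 0 := by rw [h, map_zero]
      rw [map_sum, Finset.sum_insert ha, hL a (Finset.mem_insert_self a s), Finset.sum_congr rfl hL'] at h1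
      rw [Finset.sum_insert ha] at h
      have h2 := congrArg (fun x => ((a : ℤ) + 1) • x) h
      simp only [smul_add, Finset.smul_sum, smul_zero] at h2
      simp only [sub_smul, Finset.sum_sub_distrib]
      rw [sub_eq_zero]
      simp only [add_smul, one_smul, Finset.sum_add_distrib] at h1 h2
      rw [← sub_eq_zero]
      linear_combination (norm := module) h1 - h2
    have hs : ∀ n ∈ s, v n = 0 := fun n hn => hdiv _ (by
      have : n ≠ a := fun e => ha (e ▸ hn)
      omega) _ (key n hn)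
    intro n hn
    rcases Finset.mem_insert.mp hn with rfl | hn
    · rwa [Finset.sum_insert ha, Finset.sum_eq_zero hs, add_zero] at h
    · exact hs n hn

variable (d : ∀ p : ℕ, ↥(⋀[A]^p (Ω[A⁄R])) →ₗ[R] ↥(⋀[A]^(p + 1) (Ω[A⁄R])))
  (ψ : ∀ p : ℕ, ↥(⋀[A]^p (Ω[A⁄R])) →+ ↥(⋀[A[X]]^p (Ω[A[X]⁄R])))

theorem decomp (hd' : DeRham.IsRule δT d')
    (hψ : DeRham.IsCxMap (KaehlerDifferential.D R A) δT (algebraMap A A[X]) ψ) (q : ℕ)
    (y : ↥(⋀[A[X]]^(q + 1) (Ω[A[X]⁄R]))) :
    ∃ (ω : ↥(⋀[A]^(q + 1) (Ω[A⁄R]))) (f : ℕ →₀ ↥(⋀[A[X]]^(q + 1) (Ω[A[X]⁄R]))),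
      (∀ n, lie d' q (f n) = (n + 1 : ℤ) • f n) ∧ y = ψ (q + 1) ω + f.sum fun _ v => v := by
  classical
  let P := fun y : ↥(⋀[A[X]]^(q + 1) (Ω[A[X]⁄R])) =>
    ∃ (ω : ↥(⋀[A]^(q + 1) (Ω[A⁄R]))) (f : ℕ →₀ ↥(⋀[A[X]]^(q + 1) (Ω[A[X]⁄R]))),
      (∀ n, lie d' q (f n) = (n + 1 : ℤ) • f n) ∧ y = ψ (q + 1) ω + f.sum fun _ v => v
  show P y
  have hzero : P 0 := ⟨0, 0, fun n => by simp, by simp⟩
  have hadd : ∀ x y, P x → P y → P (x + y) := by
    rintro x y ⟨ω, f, hf, rfl⟩ ⟨ω', f', hf', rfl⟩
    refine ⟨ω + ω', f + f', fun n => by rw [Finsupp.add_apply, map_add, hf, hf', smul_add], ?_⟩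
    rw [map_add, Finsupp.sum_add_index' (fun _ => rfl) (fun _ _ _ => rfl)]
    abel
  have hsingle : ∀ (n : ℕ) (v : ↥(⋀[A[X]]^(q + 1) (Ω[A[X]⁄R]))), lie d' q v = (n + 1 : ℤ) • v → P v := by
    intro n v hv
    refine ⟨0, Finsupp.single n v, fun m => ?_, by simp⟩
    by_cases hm : m = n
    · subst hm; rwa [Finsupp.single_eq_same]
    · simp [hm]
  have hC : ∀ (g : A[X]) (b : Fin (q + 1) → A), P (g • ιMulti A[X] (q + 1) fun i => δT (C (b i))) := by
    intro g b
    induction g using Polynomial.induction_on' with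
    | add f g hf hg => rw [add_smul]; exact hadd _ _ hf hg
    | monomial n a =>
      rcases n with - | n
      · exact ⟨DeRham.gen (KaehlerDifferential.D R A) (q + 1) a b, 0, fun n => by simp, by
          rw [Finsupp.sum_zero_index, add_zero, hψ]; rfl⟩
      · refine hsingle n _ ?_
        rw [lie_C d' hd', phiX_monomial, mul_smul, ← Int.cast_smul_eq_zsmul A[X]]
        push_cast
        rfl
  have hX : ∀ (g : A[X]) (b : Fin q → A),
      P (g • ιMulti A[X] (q + 1) (Fin.cons (δT X) fun i => δT (C (b i)))) := by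
    intro g b
    induction g using Polynomial.induction_on' with
    | add f g hf hg => rw [add_smul]; exact hadd _ _ hf hg
    | monomial n a =>
      refine hsingle n _ ?_
      rw [lie_X d' hd', phiX_monomial, ← Int.cast_smul_eq_zsmul A[X]]
      push_cast
      module
  have hS := exteriorPower.ιMulti_span_of_span A[X] (q + 1) (Ω[A[X]⁄R]) (span_sep (R := R) (A := A))
  have hy : y ∈ Submodule.span A[X] (ιMulti A[X] (q + 1) '' {a | Set.range a ⊆
      insert (δT (X : A[X])) (Set.range fun a : A => δT (C a))}) := by rw [hS]; trivial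
  suffices ∀ g : A[X], P (g • y) by simpa using this 1
  induction hy using Submodule.span_induction with
  | zero => intro g; rw [smul_zero]; exact hzero
  | add x y _ _ hx hy => intro g; rw [smul_add]; exact hadd _ _ (hx g) (hy g)
  | smul c x _ hx => intro g; rw [smul_smul]; exact hx _
  | mem x hx =>
    intro g
    obtain ⟨a, ha, rfl⟩ := hx
    by_cases hi : ∃ i, a i = δT (X : A[X])
    · obtain ⟨i, hi⟩ := hi
      by_cases hj : ∃ j, j ≠ i ∧ a j = δT (X : A[X])
      · obtain ⟨j, hji, hj⟩ := hj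
        rw [AlternatingMap.map_eq_zero_of_eq _ _ (hj.trans hi.symm) hji, smul_zero]
        exact hzero
      · have hrest : ∀ j, j ≠ i → ∃ c : A, δT (C c) = a j := fun j hji =>
          (ha ⟨j, rfl⟩).resolve_left fun e => hj ⟨j, hji, e⟩
        have hb : ∀ l : Fin q, ∃ c : A, δT (C c) = (a ∘ Equiv.swap 0 i) l.succ := fun l =>
          hrest _ fun e => Fin.succ_ne_zero l ((Equiv.swap 0 i).injective (e.trans (Equiv.swap_apply_left 0 i).symm))
        choose b hb using hb
        have heq : a ∘ Equiv.swap 0 i = Fin.cons (δT X) fun l => δT (C (b l)) := by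
          ext1 l
          refine Fin.cases ?_ (fun l => ?_) l
          · simp [hi]
          · simp [hb]
        by_cases h0 : i = 0
        · subst h0
          rw [Equiv.swap_self, Equiv.coe_refl, Function.comp_id] at heq
          rw [heq]; exact hX g b
        · have h := AlternatingMap.map_swap (ιMulti A[X] (q + 1)) a (Ne.symm h0)
          rw [heq] at h
          have h' : ιMulti A[X] (q + 1) a =
              -ιMulti A[X] (q + 1) (Fin.cons (δT X) fun l => δT (C (b l))) := by rw [h, neg_neg]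
          rw [h', smul_neg, ← neg_smul]
          exact hX _ b
    · rw [not_exists] at hi
      have hb : ∀ l, ∃ c : A, δT (C c) = a l := fun l => (ha ⟨l, rfl⟩).resolve_left (hi l)
      choose b hb using hb
      rw [show a = fun l => δT (C (b l)) from funext fun l => (hb l).symm]
      exact hC g b

theorem qiso [Algebra ℚ R] (hd : DeRham.IsDiff (KaehlerDifferential.D R A) d)
    (hd' : DeRham.IsDiff δT d')
    (hψ : DeRham.IsCxMap (KaehlerDifferential.D R A) δT (algebraMap A A[X]) ψ)
    (hcomm : ∀ (p : ℕ) (x : ↥(⋀[A]^p (Ω[A⁄R]))), ψ (p + 1) (d p x) = d' p (ψ p x)) (i : ℕ) :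
    (∀ y ∈ DeRham.cocycles d' i, ∃ x ∈ DeRham.cocycles d i, y - ψ i x ∈ DeRham.coboundaries d' i) ∧
      (∀ x ∈ DeRham.cocycles d i, ψ i x ∈ DeRham.coboundaries d' i → x ∈ DeRham.coboundaries d i) := by
  classical
  have hspan := kaehler_span R A[X]
  obtain ⟨ε, hε⟩ := exists_retraction (R := R) (A := A)
  have hεd : ∀ (p : ℕ) z, ε (p + 1) (d' p z) = d p (ε p z) :=
    cxMap_comm δT hspan _ _ d' hd'.1 d hd.1 ε hε
  have hεψ : ∀ (p : ℕ) x, ε p (ψ p x) = x := by
    intro p x
    refine gen_induction _ (kaehler_span R A) p (P := fun x => ε p (ψ p x) = x) ?_ (by simp)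
      (fun x y hx hy => by rw [map_add, map_add, hx, hy]) x
    intro b₀ b
    rw [hψ, hε]
    simp
  have hψinj : ∀ p x, ψ p x = 0 → x = 0 := fun p x hx => by rw [← hεψ p x, hx, map_zero]
  have hdd : ∀ q z, d' (q + 1) (d' q z) = 0 := fun q z => LinearMap.congr_fun (hd'.2 q) z
  have hdiv : ∀ (q : ℕ) (m : ℤ), m ≠ 0 → ∀ v : ↥(⋀[A[X]]^q (Ω[A[X]⁄R])), m • v = 0 → v = 0 := by
    intro q m hm v hv
    have h1 : (algebraMap ℚ R (m : ℚ)⁻¹) • ((m : ℤ) • v) = v := by
      rw [← Int.cast_smul_eq_zsmul R, smul_smul, ← map_intCast (algebraMap ℚ R) m, ← map_mul,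
        inv_mul_cancel₀ (Int.cast_ne_zero.mpr hm), map_one, one_smul]
    rw [← h1, hv, smul_zero]
  refine ⟨fun y hy => ?_, fun x hx hx' => ?_⟩
  · rw [DeRham.cocycles, LinearMap.mem_ker] at hy
    rcases i with - | q
    · let e := exteriorPower.zeroEquiv A[X] (Ω[A[X]⁄R])
      have hy0 : y = DeRham.gen δT 0 (e y) Fin.elim0 := by
        apply e.injective
        rw [DeRham.gen, map_smul, show e (ιMulti A[X] 0 _) = 1 from exteriorPower.zeroEquiv_ιMulti _, smul_eq_mul,
          mul_one]
      set f := e y with hf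
      rw [hy0, hd'.1] at hy
      have h1 := congrArg (fun z => phiX R A (exteriorPower.oneEquiv A[X] (Ω[A[X]⁄R]) z)) hy
      simp only [map_zero] at h1
      erw [exteriorPower.oneEquiv_ιMulti] at h1
      rw [Fin.cons_zero, phiX_D] at h1
      have hc : ∀ n : ℕ, n ≠ 0 → f.coeff n = 0 := by
        intro n hn
        obtain ⟨m, rfl⟩ := Nat.exists_eq_succ_of_ne_zero hn
        have h2 := congrArg (fun r : A[X] => r.coeff (m + 1)) h1
        simp only [coeff_X_mul, coeff_derivative, coeff_zero] at h2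
        have h3 : algebraMap ℚ R ((m : ℚ) + 1)⁻¹ • (f.coeff (m + 1) * ((m : A) + 1)) = f.coeff (m + 1) := by
          rw [Algebra.smul_def, mul_left_comm, show ((m : A) + 1) = algebraMap R A (algebraMap ℚ R ((m : ℚ) + 1)) by simp,
            ← map_mul, ← map_mul, inv_mul_cancel₀ (by positivity), map_one, map_one, mul_one]
        rw [Nat.succ_eq_add_one, ← h3, h2, smul_zero]
      have hf0 : f = C (f.coeff 0) := Polynomial.ext fun n => by
        rcases n with - | n
        · simp
        · rw [hc _ n.succ_ne_zero, coeff_C, if_neg n.succ_ne_zero]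
      refine ⟨DeRham.gen (KaehlerDifferential.D R A) 0 (f.coeff 0) Fin.elim0, ?_, ?_⟩
      · rw [DeRham.cocycles, LinearMap.mem_ker]
        apply hψinj
        rw [hcomm, hψ, algebraMap_eq, ← hf0, hd'.1]
        convert hy using 3
        -- closed
      · show y - _ ∈ (⊥ : Submodule R _)
        rw [Submodule.mem_bot, sub_eq_zero, hy0, hψ, algebraMap_eq, ← hf0]
        congr 1; ext i; exact i.elim0
    · obtain ⟨ω, f, hf, rfl⟩ := decomp d' ψ hd'.1 hψ q y
      rw [map_add, ← hcomm, map_finsuppSum] at hy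
      have hdf : ∀ n ∈ f.support, d' (q + 1) (f n) = 0 := by
        have hL : ∀ z, lie d' (q + 1) (d' (q + 1) z) = d' (q + 1) (lie d' q z) := fun z => by
          simp [lie, hdd]
        have h0 : lie d' (q + 1) (ψ (q + 1 + 1) (d (q + 1) ω)) = 0 := by
          refine gen_induction _ (kaehler_span R A) (q + 1 + 1)
            (P := fun w => lie d' (q + 1) (ψ (q + 1 + 1) w) = 0) ?_ (by simp)
            (fun x y hx hy => by rw [map_add, map_add, hx, hy, add_zero]) _
          intro b₀ b
          rw [hψ, DeRham.gen, algebraMap_eq]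
          rw [lie_C d' hd'.1, phiX_C, zero_smul]
        have h1 := congrArg (lie d' (q + 1)) hy
        rw [map_add, h0, zero_add, map_zero, Finsupp.sum, map_sum,
          Finset.sum_congr rfl (g := fun (n : ℕ) => ((n : ℤ) + 1) • d' (q + 1) (f n))
            (fun n _ => by rw [hL, hf, map_zsmul])] at h1
        have h2 := eigen_indep (A := A[X]) (lie d' (q + 1)).toAddMonoidHom (hdiv _) f.support
          (fun (n : ℕ) => ((n : ℤ) + 1) • d' (q + 1) (f n))
          (fun n _ => by rw [LinearMap.toAddMonoidHom_coe, map_zsmul, hL, hf, map_zsmul]) h1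
        exact fun n hn => hdiv _ _ (by omega) _ (h2 n hn)
      have hω : d (q + 1) ω = 0 := by
        apply hψinj
        rwa [Finsupp.sum, Finset.sum_eq_zero hdf, add_zero] at hy
      refine ⟨ω, hω, ?_⟩
      rw [add_sub_cancel_left]
      refine Submodule.sum_mem _ fun n hn => ?_
      refine ⟨algebraMap ℚ R ((n : ℚ) + 1)⁻¹ • contract (phiX R A) q (f n), ?_⟩
      have h3 : lie d' q (f n) = d' q (contract (phiX R A) q (f n)) := by simp [lie, hdf n hn]
      rw [map_smul, ← h3, hf, ← Int.cast_smul_eq_zsmul R, smul_smul, ← map_intCast (algebraMap ℚ R), ← map_mul,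
        Int.cast_add, Int.cast_natCast, Int.cast_one, inv_mul_cancel₀ (by positivity), map_one, one_smul]
  · rcases i with - | q
    · rw [DeRham.coboundaries, Submodule.mem_bot] at hx' ⊢
      exact hψinj _ _ hx'
    · obtain ⟨z, hz⟩ := hx'
      exact ⟨ε q z, by rw [← hεd, hz, hεψ]⟩

end Groth.Agent.H27DR.PolyHom
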