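import Mathlib
import Groth.Agent.H27DR.Basic

/-! # Kernel of `exteriorPower.map` of a surjection; descending the de Rham differential -/

namespace Groth.Agent.H27DR

open exteriorPower

universe u v w

theorem map_eq_map_of_sub_mem {A M Q : Type*} [CommRing A] [AddCommGroup M] [Module A M]
    [AddCommGroup Q] [Module A Q] {n : ℕ} (g : M [⋀^Fin n]→ₗ[A] Q) (K : Submodule A M)
    (hg : ∀ v i, v i ∈ K → g v = 0) (v v' : Fin n → M) (h : ∀ i, v i - v' i ∈ K) : g v = g v' := by
  classical
  suffices ∀ s : Finset (Fin n), g (s.piecewise v' v) = g v by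
    simpa using (this Finset.univ).symm
  intro s
  induction s using Finset.induction with
  | empty => simp
  | insert a s ha ih =>
    rw [Finset.piecewise_insert, ← ih]
    set w := s.piecewise v' v with hw
    have hwa : w a = v a := by simp [hw, ha]
    have h0 : g (Function.update w a (v a - v' a)) = 0 := hg _ a (by simpa using h a)
    rw [g.map_update_sub, sub_eq_zero, ← hwa, Function.update_eq_self] at h0
    exact h0.symm

variable {R : Type v} {A M N : Type u} [CommRing R] [CommRing A] [Algebra R A]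
  [AddCommGroup M] [Module A M] [Module R M]
  [AddCommGroup N] [Module A N]

theorem coe_map {n : ℕ} (π : M →ₗ[A] N) (x : ↥(⋀[A]^n M)) :
    (exteriorPower.map n π x : ExteriorAlgebra A N) = ExteriorAlgebra.map π (x : ExteriorAlgebra A M) := by
  have hx : x ∈ Submodule.span A (Set.range (ιMulti A n (M := M))) := by
    rw [ιMulti_span]; trivial
  induction hx using Submodule.span_induction with
  | mem y hy =>
    obtain ⟨m, rfl⟩ := hy
    simp [map_apply_ιMulti, ExteriorAlgebra.map_apply_ιMulti]
  | zero => simp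
  | add y z _ _ hy hz => simp [hy, hz]
  | smul a y _ hy => simp [hy]

theorem coe_ιMulti_cons {n : ℕ} (u : M) (w : Fin n → M) :
    (ιMulti A (n + 1) (Fin.cons u w) : ExteriorAlgebra A M) =
      ExteriorAlgebra.ι A u * (ιMulti A n w : ExteriorAlgebra A M) := by
  simp [ExteriorAlgebra.ιMulti_succ_apply, Matrix.vecTail, Function.comp_def]

/-- The kernel of `⋀^(n+1) π` is spanned by `ω ∧ δb₁ ∧ … ∧ δb_n`, `ω` in generators of `ker π`. -/
theorem ker_map_le (δ : Derivation R A M) (hδ : Submodule.span A (Set.range δ) = ⊤) (π : M →ₗ[A] N)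
    (hπ : Function.Surjective π) (T : Set M) (hT : LinearMap.ker π ≤ Submodule.span A T) (n : ℕ) :
    LinearMap.ker (exteriorPower.map (n + 1) π) ≤ Submodule.span A
      {x | ∃ ω ∈ T, ∃ b : Fin n → A, x = ιMulti A (n + 1) (Fin.cons ω (fun i => δ (b i)))} := by
  classical
  set S := Submodule.span A
      {x | ∃ ω ∈ T, ∃ b : Fin n → A, x = ιMulti A (n + 1) (Fin.cons ω (fun i => δ (b i)))}
  let g : M [⋀^Fin (n + 1)]→ₗ[A] (↥(⋀[A]^(n + 1) M) ⧸ S) := S.mkQ.compAlternatingMap (ιMulti A (n + 1))
  have h1 : ∀ ω ∈ Submodule.span A T, g.curryLeft ω = 0 := by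
    intro ω hω
    induction hω using Submodule.span_induction with
    | mem ω hω =>
      apply exteriorPower.alternatingMapLinearEquiv.injective
      rw [map_zero]
      refine LinearMap.ext_on (ιMulti_span_eq_top δ hδ n) ?_
      rintro _ ⟨b, rfl⟩
      rw [alternatingMapLinearEquiv_apply_ιMulti, LinearMap.zero_apply, AlternatingMap.curryLeft_apply_apply]
      exact (Submodule.Quotient.mk_eq_zero S).mpr (Submodule.subset_span ⟨ω, hω, b, rfl⟩)
    | zero => simp
    | add y z _ _ hy hz => simp [hy, hz]
    | smul a y _ hy => simp [hy]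
  have h0 : ∀ v, v 0 ∈ LinearMap.ker π → g v = 0 := fun v hv => by
    have := DFunLike.congr_fun (h1 _ (hT hv)) (Matrix.vecTail v)
    have hv' : Matrix.vecCons (v 0) (Matrix.vecTail v) = v := Matrix.cons_head_tail v
    simpa [AlternatingMap.curryLeft_apply_apply, hv'] using this
  have hg : ∀ v i, v i ∈ LinearMap.ker π → g v = 0 := by
    intro v i hi
    by_cases h : i = 0
    · exact h0 v (h ▸ hi)
    · have h2 := h0 (v ∘ Equiv.swap 0 i) (by simpa using hi)
      rw [g.map_swap v (Ne.symm h)] at h2
      exact neg_eq_zero.mp h2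
  have hwd : ∀ (v v' : Fin (n + 1) → M), (∀ i, π (v i) = π (v' i)) → g v = g v' := fun v v' h =>
    map_eq_map_of_sub_mem g _ hg v v' fun i => by simp [h i]
  choose s hs using hπ
  let f : N [⋀^Fin (n + 1)]→ₗ[A] (↥(⋀[A]^(n + 1) M) ⧸ S) :=
    { toFun := fun v => g (s ∘ v)
      map_update_add' := fun {inst} v i x y => by
        simp only [Function.comp_update]
        rw [hwd (Function.update (s ∘ v) i (s (x + y))) (Function.update (s ∘ v) i (s x + s y))
          (fun j => by by_cases hj : j = i <;> simp [hj, hs]), g.map_update_add]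
      map_update_smul' := fun {inst} v i c x => by
        simp only [Function.comp_update]
        rw [hwd (Function.update (s ∘ v) i (s (c • x))) (Function.update (s ∘ v) i (c • s x))
          (fun j => by by_cases hj : j = i <;> simp [hj, hs]), g.map_update_smul]
      map_eq_zero_of_eq' := fun v i j h hij => g.map_eq_zero_of_eq _ (by simp [h]) hij }
  have hfg : (exteriorPower.alternatingMapLinearEquiv f) ∘ₗ exteriorPower.map (n + 1) π = S.mkQ := by
    refine exteriorPower.linearMap_ext ?_
    ext v
    simp only [LinearMap.compAlternatingMap_apply, LinearMap.comp_apply, map_apply_ιMulti,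
      alternatingMapLinearEquiv_apply_ιMulti]
    exact hwd _ _ fun i => by simp [hs]
  intro x hx
  rw [← Submodule.Quotient.mk_eq_zero S, ← Submodule.mkQ_apply, ← hfg, LinearMap.comp_apply,
    LinearMap.mem_ker.mp hx, map_zero]

/-- `d (c • ω ∧ δb)` in the exterior algebra. -/
theorem coe_d_smul_cons [IsScalarTower R A M] (δ : Derivation R A M)
    (hδ : Submodule.span A (Set.range δ) = ⊤)
    (d : ∀ p : ℕ, ↥(⋀[A]^p M) →ₗ[R] ↥(⋀[A]^(p + 1) M)) (hd : DeRham.IsRule δ d)
    (n : ℕ) (b : Fin n → A) (ω : M) (c : A) :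
    (d (n + 1) (c • ιMulti A (n + 1) (Fin.cons ω (fun i => δ (b i)))) : ExteriorAlgebra A M) =
      c • ((d 1 ((oneEquiv A M).symm ω) : ExteriorAlgebra A M) *
          (ιMulti A n (fun i => δ (b i)) : ExteriorAlgebra A M)) +
        ExteriorAlgebra.ι A (δ c) * (ExteriorAlgebra.ι A ω *
          (ιMulti A n (fun i => δ (b i)) : ExteriorAlgebra A M)) := by
  set E : ExteriorAlgebra A M := (ιMulti A n (fun i => δ (b i)) : ExteriorAlgebra A M) with hE
  let w : Fin n → M := fun i => δ (b i)
  have hlin : ∀ (a : A) (u : M), ιMulti A (n + 1) (Fin.cons (a • u) w) =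
      a • ιMulti A (n + 1) (Fin.cons u w) := fun a u => by
    refine Subtype.ext ?_
    rw [Submodule.coe_smul, coe_ιMulti_cons, coe_ιMulti_cons, map_smul, smul_mul_assoc]
  have hadd : ∀ (u u' : M), ιMulti A (n + 1) (Fin.cons (u + u') w) =
      ιMulti A (n + 1) (Fin.cons u w) + ιMulti A (n + 1) (Fin.cons u' w) := fun u u' => by
    refine Subtype.ext ?_
    rw [Submodule.coe_add, coe_ιMulti_cons, coe_ιMulti_cons, coe_ιMulti_cons, map_add, add_mul]
  have hω : ω ∈ Submodule.span A (Set.range δ) := by rw [hδ]; trivial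
  suffices ∀ a c : A, (d (n + 1) (c • ιMulti A (n + 1) (Fin.cons (a • ω) w)) : ExteriorAlgebra A M) =
      c • ((d 1 ((oneEquiv A M).symm (a • ω)) : ExteriorAlgebra A M) * E) +
        ExteriorAlgebra.ι A (δ c) * (ExteriorAlgebra.ι A (a • ω) * E) by
    simpa using this 1 c
  induction hω using Submodule.span_induction with
  | mem y hy =>
    obtain ⟨e, rfl⟩ := hy
    intro a c
    have h1 : (oneEquiv A M).symm (a • δ e) = DeRham.gen δ 1 a ![e] := by
      apply (oneEquiv A M).injective
      rw [LinearEquiv.apply_symm_apply, DeRham.gen, map_smul, oneEquiv_ιMulti]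
      simp
    have hcons : (fun i : Fin (n + 1) => δ ((Fin.cons e b : Fin (n + 1) → A) i)) = Fin.cons (δ e) w := by
      ext i; refine Fin.cases ?_ ?_ i <;> simp [w]
    have h2 : c • ιMulti A (n + 1) (Fin.cons (a • δ e) w) =
        DeRham.gen δ (n + 1) (c * a) (Fin.cons e b) := by
      rw [hlin, smul_smul, DeRham.gen, hcons]
    rw [h1, h2, hd, hd, hcons, coe_ιMulti_cons, coe_ιMulti_cons, coe_ιMulti_cons, Derivation.leibniz]
    simp [hE, w, mul_assoc, add_mul]
  | zero =>
    intro a c
    have : ιMulti A (n + 1) (Fin.cons (0 : M) w) = 0 := by simpa using hlin 0 0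
    simp [this]
  | add y z _ _ hy hz =>
    intro a c
    rw [smul_add, hadd, smul_add, map_add, Submodule.coe_add, hy, hz]
    simp only [map_add, Submodule.coe_add, add_mul, smul_add, mul_add]
    abel
  | smul r y _ hy =>
    intro a c
    rw [smul_smul]
    exact hy _ _

end Groth.Agent.H27DR
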